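import Cfsg.Agent.Spor.Rue.D0

set_option autoImplicit false
set_option maxRecDepth 100000000
set_option Elab.async false

namespace Cfsg.Agent.Spor.Rue

theorem ok0 : Net.okb 8 n0 = true := by decide +kernel

theorem ok1 : Net.okb 8 n1 = true := by decide +kernel

theorem ok2 : Net.okb 8 n2 = true := by decide +kernel

theorem rel0 : T.rel 8 [3, 3, 3, 3] 0 8 = true := by decide +kernel

theorem rel1 : T.rel 8 [1, 2, 4, 3, 5, 6] 0 8 = true := by decide +kernel

theorem rel2 : T.rel 8 [2, 2, 3, 5, 5, 6] 0 8 = true := by decide +kernel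

theorem rel3 : T.rel 8 [2, 1, 2, 2, 4, 2] 0 8 = true := by decide +kernel

theorem rel4 : T.rel 8 [1, 1, 2, 6, 2, 3] 0 8 = true := by decide +kernel

theorem rel5 : T.rel 8 [1, 1, 1, 1] 0 8 = true := by decide +kernel

theorem rel6 : T.rel 8 [1, 1, 3, 1, 3, 3, 1, 3] 0 8 = true := by decide +kernel

theorem rel7 : T.rel 8 [1, 3, 1, 3, 1, 3, 1, 3] 0 8 = true := by decide +kernel

theorem hcov : T.treeCov (ones 256) L 1 = true := by decide +kernel

theorem hg : lall (fun z => band (memL L z) (band (sub (ones 256) (T.let z).cl) (T.closed (ones 256) z))) gs = true := by decide +kernel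

theorem rot1_1 : T.rot 1 [4] (sel (ones 256) ip1 1) = true := by decide +kernel

theorem rot1_1r : band (Rule.ok (2 * 0) EX RL ⟨1 :: [4], [], 8, false⟩) (lall (memL L) [4]) = true := by decide +kernel

theorem rot1_2 : T.rot 1 [1, 1, 1] (sel (ones 256) ip1 2) = true := by decide +kernel

theorem rot1_2r : band (Rule.ok (2 * 0) EX RL ⟨1 :: [1, 1, 1], [], 5, true⟩) (lall (memL L) [1, 1, 1]) = true := by decide +kernel

theorem rot1_3 : T.rot 1 [2, 4, 3, 5, 6] (sel (ones 256) ip1 3) = true := by decide +kernel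

theorem rot1_3r : band (Rule.ok (2 * 0) EX RL ⟨1 :: [2, 4, 3, 5, 6], [], 1, true⟩) (lall (memL L) [2, 4, 3, 5, 6]) = true := by decide +kernel

theorem rot1_4 : T.rot 1 [5, 4, 3, 2, 6] (sel (ones 256) ip1 4) = true := by decide +kernel

theorem rot1_4r : band (Rule.ok (2 * 0) EX RL ⟨1 :: [5, 4, 3, 2, 6], [1, 3, 0], 1, false⟩) (lall (memL L) [5, 4, 3, 2, 6]) = true := by decide +kernel

theorem rot1_5 : T.rot 1 [2, 2, 4, 2, 2] (sel (ones 256) ip1 5) = true := by decide +kernel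

theorem rot1_5r : band (Rule.ok (2 * 0) EX RL ⟨1 :: [2, 2, 4, 2, 2], [3], 3, true⟩) (lall (memL L) [2, 2, 4, 2, 2]) = true := by decide +kernel

theorem rot1_6 : T.rot 1 [5, 5, 4, 5, 5] (sel (ones 256) ip1 6) = true := by decide +kernel

theorem rot1_6r : band (Rule.ok (2 * 0) EX RL ⟨1 :: [5, 5, 4, 5, 5], [2], 3, false⟩) (lall (memL L) [5, 5, 4, 5, 5]) = true := by decide +kernel

theorem rot1_7 : T.rot 1 [1, 2, 6, 2, 3] (sel (ones 256) ip1 7) = true := by decide +kernel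

theorem rot1_7r : band (Rule.ok (2 * 0) EX RL ⟨1 :: [1, 2, 6, 2, 3], [], 4, true⟩) (lall (memL L) [1, 2, 6, 2, 3]) = true := by decide +kernel

theorem rot1_8 : T.rot 1 [2, 6, 2, 3, 1] (sel (ones 256) ip1 8) = true := by decide +kernel

theorem rot1_8r : band (Rule.ok (2 * 0) EX RL ⟨1 :: [2, 6, 2, 3, 1], [1], 4, true⟩) (lall (memL L) [2, 6, 2, 3, 1]) = true := by decide +kernel

theorem rot1_9 : T.rot 1 [1, 3, 1, 3, 3, 1, 3] (sel (ones 256) ip1 9) = true := by decide +kernel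

theorem rot1_9r : band (Rule.ok (2 * 0) EX RL ⟨1 :: [1, 3, 1, 3, 3, 1, 3], [], 6, true⟩) (lall (memL L) [1, 3, 1, 3, 3, 1, 3]) = true := by decide +kernel

theorem rot1_10 : T.rot 1 [3, 1, 3, 3, 1, 3, 1] (sel (ones 256) ip1 10) = true := by decide +kernel

theorem rot1_10r : band (Rule.ok (2 * 0) EX RL ⟨1 :: [3, 1, 3, 3, 1, 3, 1], [1], 6, true⟩) (lall (memL L) [3, 1, 3, 3, 1, 3, 1]) = true := by decide +kernel

theorem rot1_11 : T.rot 1 [3, 3, 1, 3, 1, 1, 3] (sel (ones 256) ip1 11) = true := by decide +kernel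

theorem rot1_11r : band (Rule.ok (2 * 0) EX RL ⟨1 :: [3, 3, 1, 3, 1, 1, 3], [1, 1, 5], 6, true⟩) (lall (memL L) [3, 3, 1, 3, 1, 1, 3]) = true := by decide +kernel

theorem rot1_12 : T.rot 1 [3, 1, 1, 3, 1, 3, 3] (sel (ones 256) ip1 12) = true := by decide +kernel

theorem rot1_12r : band (Rule.ok (2 * 0) EX RL ⟨1 :: [3, 1, 1, 3, 1, 3, 3], [4, 0], 6, true⟩) (lall (memL L) [3, 1, 1, 3, 1, 3, 3]) = true := by decide +kernel

theorem rot1_13 : T.rot 1 [3, 1, 3, 1, 3, 1, 3] (sel (ones 256) ip1 13) = true := by decide +kernel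

theorem rot1_13r : band (Rule.ok (2 * 0) EX RL ⟨1 :: [3, 1, 3, 1, 3, 1, 3], [], 7, true⟩) (lall (memL L) [3, 1, 3, 1, 3, 1, 3]) = true := by decide +kernel

theorem cov1 : T.cover 1 [(sel (ones 256) ip1 1), (sel (ones 256) ip1 2), (sel (ones 256) ip1 3), (sel (ones 256) ip1 4), (sel (ones 256) ip1 5), (sel (ones 256) ip1 6), (sel (ones 256) ip1 7), (sel (ones 256) ip1 8), (sel (ones 256) ip1 9), (sel (ones 256) ip1 10), (sel (ones 256) ip1 11), (sel (ones 256) ip1 12), (sel (ones 256) ip1 13)] = true := by decide +kernel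

theorem tl1 : T.treeLt 8 1 = true := by decide +kernel

theorem rot2_1 : T.rot 2 [5] (sel (ones 256) ip2 1) = true := by decide +kernel

theorem rot2_1r : band (Rule.ok (2 * 0) EX RL ⟨2 :: [5], [], 8, false⟩) (lall (memL L) [5]) = true := by decide +kernel

theorem rot2_2 : T.rot 2 [4, 3, 5, 6, 1] (sel (ones 256) ip2 2) = true := by decide +kernel

theorem rot2_2r : band (Rule.ok (2 * 0) EX RL ⟨2 :: [4, 3, 5, 6, 1], [1], 1, true⟩) (lall (memL L) [4, 3, 5, 6, 1]) = true := by decide +kernel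

theorem rot2_3 : T.rot 2 [6, 1, 5, 4, 3] (sel (ones 256) ip2 3) = true := by decide +kernel

theorem rot2_3r : band (Rule.ok (2 * 0) EX RL ⟨2 :: [6, 1, 5, 4, 3], [5], 1, false⟩) (lall (memL L) [6, 1, 5, 4, 3]) = true := by decide +kernel

theorem rot2_4 : T.rot 2 [2, 3, 5, 5, 6] (sel (ones 256) ip2 4) = true := by decide +kernel

theorem rot2_4r : band (Rule.ok (2 * 0) EX RL ⟨2 :: [2, 3, 5, 5, 6], [], 2, true⟩) (lall (memL L) [2, 3, 5, 5, 6]) = true := by decide +kernel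

theorem rot2_5 : T.rot 2 [3, 5, 5, 6, 2] (sel (ones 256) ip2 5) = true := by decide +kernel

theorem rot2_5r : band (Rule.ok (2 * 0) EX RL ⟨2 :: [3, 5, 5, 6, 2], [3], 2, true⟩) (lall (memL L) [3, 5, 5, 6, 2]) = true := by decide +kernel

theorem rot2_6 : T.rot 2 [2, 6, 5, 5, 3] (sel (ones 256) ip2 6) = true := by decide +kernel

theorem rot2_6r : band (Rule.ok (2 * 0) EX RL ⟨2 :: [2, 6, 5, 5, 3], [5], 2, false⟩) (lall (memL L) [2, 6, 5, 5, 3]) = true := by decide +kernel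

theorem rot2_7 : T.rot 2 [6, 5, 5, 3, 2] (sel (ones 256) ip2 7) = true := by decide +kernel

theorem rot2_7r : band (Rule.ok (2 * 0) EX RL ⟨2 :: [6, 5, 5, 3, 2], [5, 3], 2, false⟩) (lall (memL L) [6, 5, 5, 3, 2]) = true := by decide +kernel

theorem rot2_8 : T.rot 2 [1, 2, 2, 4, 2] (sel (ones 256) ip2 8) = true := by decide +kernel

theorem rot2_8r : band (Rule.ok (2 * 0) EX RL ⟨2 :: [1, 2, 2, 4, 2], [], 3, true⟩) (lall (memL L) [1, 2, 2, 4, 2]) = true := by decide +kernel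

theorem rot2_9 : T.rot 2 [2, 4, 2, 2, 1] (sel (ones 256) ip2 9) = true := by decide +kernel

theorem rot2_9r : band (Rule.ok (2 * 0) EX RL ⟨2 :: [2, 4, 2, 2, 1], [3, 1], 3, true⟩) (lall (memL L) [2, 4, 2, 2, 1]) = true := by decide +kernel

theorem rot2_10 : T.rot 2 [4, 2, 2, 1, 2] (sel (ones 256) ip2 10) = true := by decide +kernel

theorem rot2_10r : band (Rule.ok (2 * 0) EX RL ⟨2 :: [4, 2, 2, 1, 2], [2, 1, 2], 3, true⟩) (lall (memL L) [4, 2, 2, 1, 2]) = true := by decide +kernel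

theorem rot2_11 : T.rot 2 [2, 1, 2, 2, 4] (sel (ones 256) ip2 11) = true := by decide +kernel

theorem rot2_11r : band (Rule.ok (2 * 0) EX RL ⟨2 :: [2, 1, 2, 2, 4], [2], 3, true⟩) (lall (memL L) [2, 1, 2, 2, 4]) = true := by decide +kernel

theorem rot2_12 : T.rot 2 [6, 2, 3, 1, 1] (sel (ones 256) ip2 12) = true := by decide +kernel

theorem rot2_12r : band (Rule.ok (2 * 0) EX RL ⟨2 :: [6, 2, 3, 1, 1], [1, 1], 4, true⟩) (lall (memL L) [6, 2, 3, 1, 1]) = true := by decide +kernel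

theorem rot2_13 : T.rot 2 [3, 1, 1, 2, 6] (sel (ones 256) ip2 13) = true := by decide +kernel

theorem rot2_13r : band (Rule.ok (2 * 0) EX RL ⟨2 :: [3, 1, 1, 2, 6], [4, 2], 4, true⟩) (lall (memL L) [3, 1, 1, 2, 6]) = true := by decide +kernel

theorem cov2 : T.cover 2 [(sel (ones 256) ip2 1), (sel (ones 256) ip2 2), (sel (ones 256) ip2 3), (sel (ones 256) ip2 4), (sel (ones 256) ip2 5), (sel (ones 256) ip2 6), (sel (ones 256) ip2 7), (sel (ones 256) ip2 8), (sel (ones 256) ip2 9), (sel (ones 256) ip2 10), (sel (ones 256) ip2 11), (sel (ones 256) ip2 12), (sel (ones 256) ip2 13)] = true := by decide +kernel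

theorem tl2 : T.treeLt 8 2 = true := by decide +kernel

theorem rot3_1 : T.rot 3 [6] (sel (ones 256) ip3 1) = true := by decide +kernel

theorem rot3_1r : band (Rule.ok (2 * 0) EX RL ⟨3 :: [6], [], 8, false⟩) (lall (memL L) [6]) = true := by decide +kernel

theorem rot3_2 : T.rot 3 [3, 3, 3] (sel (ones 256) ip3 2) = true := by decide +kernel

theorem rot3_2r : band (Rule.ok (2 * 0) EX RL ⟨3 :: [3, 3, 3], [], 0, true⟩) (lall (memL L) [3, 3, 3]) = true := by decide +kernel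

theorem rot3_3 : T.rot 3 [5, 6, 1, 2, 4] (sel (ones 256) ip3 3) = true := by decide +kernel

theorem rot3_3r : band (Rule.ok (2 * 0) EX RL ⟨3 :: [5, 6, 1, 2, 4], [5, 3, 4], 1, true⟩) (lall (memL L) [5, 6, 1, 2, 4]) = true := by decide +kernel

theorem rot3_4 : T.rot 3 [2, 6, 1, 5, 4] (sel (ones 256) ip3 4) = true := by decide +kernel

theorem rot3_4r : band (Rule.ok (2 * 0) EX RL ⟨3 :: [2, 6, 1, 5, 4], [], 1, false⟩) (lall (memL L) [2, 6, 1, 5, 4]) = true := by decide +kernel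

theorem rot3_5 : T.rot 3 [5, 5, 6, 2, 2] (sel (ones 256) ip3 5) = true := by decide +kernel

theorem rot3_5r : band (Rule.ok (2 * 0) EX RL ⟨3 :: [5, 5, 6, 2, 2], [3, 3], 2, true⟩) (lall (memL L) [5, 5, 6, 2, 2]) = true := by decide +kernel

theorem rot3_6 : T.rot 3 [2, 2, 6, 5, 5] (sel (ones 256) ip3 6) = true := by decide +kernel

theorem rot3_6r : band (Rule.ok (2 * 0) EX RL ⟨3 :: [2, 2, 6, 5, 5], [], 2, false⟩) (lall (memL L) [2, 2, 6, 5, 5]) = true := by decide +kernel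

theorem rot3_7 : T.rot 3 [1, 1, 2, 6, 2] (sel (ones 256) ip3 7) = true := by decide +kernel

theorem rot3_7r : band (Rule.ok (2 * 0) EX RL ⟨3 :: [1, 1, 2, 6, 2], [4], 4, true⟩) (lall (memL L) [1, 1, 2, 6, 2]) = true := by decide +kernel

theorem rot3_8 : T.rot 3 [5, 4, 4, 6, 5] (sel (ones 256) ip3 8) = true := by decide +kernel

theorem rot3_8r : band (Rule.ok (2 * 0) EX RL ⟨3 :: [5, 4, 4, 6, 5], [4, 2], 4, false⟩) (lall (memL L) [5, 4, 4, 6, 5]) = true := by decide +kernel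

theorem rot3_9 : T.rot 3 [1, 3, 3, 1, 3, 1, 1] (sel (ones 256) ip3 9) = true := by decide +kernel

theorem rot3_9r : band (Rule.ok (2 * 0) EX RL ⟨3 :: [1, 3, 3, 1, 3, 1, 1], [1, 1], 6, true⟩) (lall (memL L) [1, 3, 3, 1, 3, 1, 1]) = true := by decide +kernel

theorem rot3_10 : T.rot 3 [3, 1, 3, 1, 1, 3, 1] (sel (ones 256) ip3 10) = true := by decide +kernel

theorem rot3_10r : band (Rule.ok (2 * 0) EX RL ⟨3 :: [3, 1, 3, 1, 1, 3, 1], [4, 0, 4, 4], 6, true⟩) (lall (memL L) [3, 1, 3, 1, 1, 3, 1]) = true := by decide +kernel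

theorem rot3_11 : T.rot 3 [1, 3, 1, 1, 3, 1, 3] (sel (ones 256) ip3 11) = true := by decide +kernel

theorem rot3_11r : band (Rule.ok (2 * 0) EX RL ⟨3 :: [1, 3, 1, 1, 3, 1, 3], [4, 0, 4], 6, true⟩) (lall (memL L) [1, 3, 1, 1, 3, 1, 3]) = true := by decide +kernel

theorem rot3_12 : T.rot 3 [1, 1, 3, 1, 3, 3, 1] (sel (ones 256) ip3 12) = true := by decide +kernel

theorem rot3_12r : band (Rule.ok (2 * 0) EX RL ⟨3 :: [1, 1, 3, 1, 3, 3, 1], [4], 6, true⟩) (lall (memL L) [1, 1, 3, 1, 3, 3, 1]) = true := by decide +kernel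

theorem cov3 : T.cover 3 [(sel (ones 256) ip3 1), (sel (ones 256) ip3 2), (sel (ones 256) ip3 3), (sel (ones 256) ip3 4), (sel (ones 256) ip3 5), (sel (ones 256) ip3 6), (sel (ones 256) ip3 7), (sel (ones 256) ip3 8), (sel (ones 256) ip3 9), (sel (ones 256) ip3 10), (sel (ones 256) ip3 11), (sel (ones 256) ip3 12)] = true := by decide +kernel

theorem tl3 : T.treeLt 8 3 = true := by decide +kernel

theorem rot4_1 : T.rot 4 [1] (sel (ones 256) ip4 1) = true := by decide +kernel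

theorem rot4_1r : band (Rule.ok (2 * 0) EX RL ⟨4 :: [1], [], 8, false⟩) (lall (memL L) [1]) = true := by decide +kernel

theorem rot4_2 : T.rot 4 [4, 4, 4] (sel (ones 256) ip4 2) = true := by decide +kernel

theorem rot4_2r : band (Rule.ok (2 * 0) EX RL ⟨4 :: [4, 4, 4], [], 5, false⟩) (lall (memL L) [4, 4, 4]) = true := by decide +kernel

theorem rot4_3 : T.rot 4 [3, 5, 6, 1, 2] (sel (ones 256) ip4 3) = true := by decide +kernel

theorem rot4_3r : band (Rule.ok (2 * 0) EX RL ⟨4 :: [3, 5, 6, 1, 2], [1, 3], 1, true⟩) (lall (memL L) [3, 5, 6, 1, 2]) = true := by decide +kernel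

theorem rot4_4 : T.rot 4 [3, 2, 6, 1, 5] (sel (ones 256) ip4 4) = true := by decide +kernel

theorem rot4_4r : band (Rule.ok (2 * 0) EX RL ⟨4 :: [3, 2, 6, 1, 5], [1], 1, false⟩) (lall (memL L) [3, 2, 6, 1, 5]) = true := by decide +kernel

theorem rot4_5 : T.rot 4 [2, 2, 1, 2, 2] (sel (ones 256) ip4 5) = true := by decide +kernel

theorem rot4_5r : band (Rule.ok (2 * 0) EX RL ⟨4 :: [2, 2, 1, 2, 2], [2, 1], 3, true⟩) (lall (memL L) [2, 2, 1, 2, 2]) = true := by decide +kernel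

theorem rot4_6 : T.rot 4 [5, 5, 1, 5, 5] (sel (ones 256) ip4 6) = true := by decide +kernel

theorem rot4_6r : band (Rule.ok (2 * 0) EX RL ⟨4 :: [5, 5, 1, 5, 5], [3, 1], 3, false⟩) (lall (memL L) [5, 5, 1, 5, 5]) = true := by decide +kernel

theorem rot4_7 : T.rot 4 [4, 6, 5, 3, 5] (sel (ones 256) ip4 7) = true := by decide +kernel

theorem rot4_7r : band (Rule.ok (2 * 0) EX RL ⟨4 :: [4, 6, 5, 3, 5], [1, 1], 4, false⟩) (lall (memL L) [4, 6, 5, 3, 5]) = true := by decide +kernel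

theorem rot4_8 : T.rot 4 [6, 5, 3, 5, 4] (sel (ones 256) ip4 8) = true := by decide +kernel

theorem rot4_8r : band (Rule.ok (2 * 0) EX RL ⟨4 :: [6, 5, 3, 5, 4], [1], 4, false⟩) (lall (memL L) [6, 5, 3, 5, 4]) = true := by decide +kernel

theorem rot4_9 : T.rot 4 [6, 6, 4, 6, 4, 4, 6] (sel (ones 256) ip4 9) = true := by decide +kernel

theorem rot4_9r : band (Rule.ok (2 * 0) EX RL ⟨4 :: [6, 6, 4, 6, 4, 4, 6], [4], 6, false⟩) (lall (memL L) [6, 6, 4, 6, 4, 4, 6]) = true := by decide +kernel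

theorem rot4_10 : T.rot 4 [6, 4, 4, 6, 4, 6, 6] (sel (ones 256) ip4 10) = true := by decide +kernel

theorem rot4_10r : band (Rule.ok (2 * 0) EX RL ⟨4 :: [6, 4, 4, 6, 4, 6, 6], [1, 1, 5, 1], 6, false⟩) (lall (memL L) [6, 4, 4, 6, 4, 6, 6]) = true := by decide +kernel

theorem rot4_11 : T.rot 4 [4, 6, 4, 6, 6, 4, 6] (sel (ones 256) ip4 11) = true := by decide +kernel

theorem rot4_11r : band (Rule.ok (2 * 0) EX RL ⟨4 :: [4, 6, 4, 6, 6, 4, 6], [1, 1], 6, false⟩) (lall (memL L) [4, 6, 4, 6, 6, 4, 6]) = true := by decide +kernel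

theorem rot4_12 : T.rot 4 [6, 4, 6, 6, 4, 6, 4] (sel (ones 256) ip4 12) = true := by decide +kernel

theorem rot4_12r : band (Rule.ok (2 * 0) EX RL ⟨4 :: [6, 4, 6, 6, 4, 6, 4], [1], 6, false⟩) (lall (memL L) [6, 4, 6, 6, 4, 6, 4]) = true := by decide +kernel

theorem rot4_13 : T.rot 4 [6, 4, 6, 4, 6, 4, 6] (sel (ones 256) ip4 13) = true := by decide +kernel

theorem rot4_13r : band (Rule.ok (2 * 0) EX RL ⟨4 :: [6, 4, 6, 4, 6, 4, 6], [1], 7, false⟩) (lall (memL L) [6, 4, 6, 4, 6, 4, 6]) = true := by decide +kernel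

theorem cov4 : T.cover 4 [(sel (ones 256) ip4 1), (sel (ones 256) ip4 2), (sel (ones 256) ip4 3), (sel (ones 256) ip4 4), (sel (ones 256) ip4 5), (sel (ones 256) ip4 6), (sel (ones 256) ip4 7), (sel (ones 256) ip4 8), (sel (ones 256) ip4 9), (sel (ones 256) ip4 10), (sel (ones 256) ip4 11), (sel (ones 256) ip4 12), (sel (ones 256) ip4 13)] = true := by decide +kernel

theorem tl4 : T.treeLt 8 4 = true := by decide +kernel

theorem rot5_1 : T.rot 5 [2] (sel (ones 256) ip5 1) = true := by decide +kernel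

theorem rot5_1r : band (Rule.ok (2 * 0) EX RL ⟨5 :: [2], [], 8, false⟩) (lall (memL L) [2]) = true := by decide +kernel

theorem rot5_2 : T.rot 5 [6, 1, 2, 4, 3] (sel (ones 256) ip5 2) = true := by decide +kernel

theorem rot5_2r : band (Rule.ok (2 * 0) EX RL ⟨5 :: [6, 1, 2, 4, 3], [5, 3], 1, true⟩) (lall (memL L) [6, 1, 2, 4, 3]) = true := by decide +kernel

theorem rot5_3 : T.rot 5 [4, 3, 2, 6, 1] (sel (ones 256) ip5 3) = true := by decide +kernel

theorem rot5_3r : band (Rule.ok (2 * 0) EX RL ⟨5 :: [4, 3, 2, 6, 1], [1, 3], 1, false⟩) (lall (memL L) [4, 3, 2, 6, 1]) = true := by decide +kernel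

theorem rot5_4 : T.rot 5 [5, 6, 2, 2, 3] (sel (ones 256) ip5 4) = true := by decide +kernel

theorem rot5_4r : band (Rule.ok (2 * 0) EX RL ⟨5 :: [5, 6, 2, 2, 3], [5, 3, 3], 2, true⟩) (lall (memL L) [5, 6, 2, 2, 3]) = true := by decide +kernel

theorem rot5_5 : T.rot 5 [6, 2, 2, 3, 5] (sel (ones 256) ip5 5) = true := by decide +kernel

theorem rot5_5r : band (Rule.ok (2 * 0) EX RL ⟨5 :: [6, 2, 2, 3, 5], [5, 3], 2, true⟩) (lall (memL L) [6, 2, 2, 3, 5]) = true := by decide +kernel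

theorem rot5_6 : T.rot 5 [5, 3, 2, 2, 6] (sel (ones 256) ip5 6) = true := by decide +kernel

theorem rot5_6r : band (Rule.ok (2 * 0) EX RL ⟨5 :: [5, 3, 2, 2, 6], [3, 3], 2, false⟩) (lall (memL L) [5, 3, 2, 2, 6]) = true := by decide +kernel

theorem rot5_7 : T.rot 5 [3, 2, 2, 6, 5] (sel (ones 256) ip5 7) = true := by decide +kernel

theorem rot5_7r : band (Rule.ok (2 * 0) EX RL ⟨5 :: [3, 2, 2, 6, 5], [3], 2, false⟩) (lall (memL L) [3, 2, 2, 6, 5]) = true := by decide +kernel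

theorem rot5_8 : T.rot 5 [1, 5, 5, 4, 5] (sel (ones 256) ip5 8) = true := by decide +kernel

theorem rot5_8r : band (Rule.ok (2 * 0) EX RL ⟨5 :: [1, 5, 5, 4, 5], [], 3, false⟩) (lall (memL L) [1, 5, 5, 4, 5]) = true := by decide +kernel

theorem rot5_9 : T.rot 5 [5, 4, 5, 5, 1] (sel (ones 256) ip5 9) = true := by decide +kernel

theorem rot5_9r : band (Rule.ok (2 * 0) EX RL ⟨5 :: [5, 4, 5, 5, 1], [2, 1], 3, false⟩) (lall (memL L) [5, 4, 5, 5, 1]) = true := by decide +kernel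

theorem rot5_10 : T.rot 5 [4, 5, 5, 1, 5] (sel (ones 256) ip5 10) = true := by decide +kernel

theorem rot5_10r : band (Rule.ok (2 * 0) EX RL ⟨5 :: [4, 5, 5, 1, 5], [3, 1, 3], 3, false⟩) (lall (memL L) [4, 5, 5, 1, 5]) = true := by decide +kernel

theorem rot5_11 : T.rot 5 [5, 1, 5, 5, 4] (sel (ones 256) ip5 11) = true := by decide +kernel

theorem rot5_11r : band (Rule.ok (2 * 0) EX RL ⟨5 :: [5, 1, 5, 5, 4], [3], 3, false⟩) (lall (memL L) [5, 1, 5, 5, 4]) = true := by decide +kernel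

theorem rot5_12 : T.rot 5 [3, 5, 4, 4, 6] (sel (ones 256) ip5 12) = true := by decide +kernel

theorem rot5_12r : band (Rule.ok (2 * 0) EX RL ⟨5 :: [3, 5, 4, 4, 6], [4], 4, false⟩) (lall (memL L) [3, 5, 4, 4, 6]) = true := by decide +kernel

theorem rot5_13 : T.rot 5 [4, 4, 6, 5, 3] (sel (ones 256) ip5 13) = true := by decide +kernel

theorem rot5_13r : band (Rule.ok (2 * 0) EX RL ⟨5 :: [4, 4, 6, 5, 3], [1, 1, 3], 4, false⟩) (lall (memL L) [4, 4, 6, 5, 3]) = true := by decide +kernel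

theorem cov5 : T.cover 5 [(sel (ones 256) ip5 1), (sel (ones 256) ip5 2), (sel (ones 256) ip5 3), (sel (ones 256) ip5 4), (sel (ones 256) ip5 5), (sel (ones 256) ip5 6), (sel (ones 256) ip5 7), (sel (ones 256) ip5 8), (sel (ones 256) ip5 9), (sel (ones 256) ip5 10), (sel (ones 256) ip5 11), (sel (ones 256) ip5 12), (sel (ones 256) ip5 13)] = true := by decide +kernel

theorem tl5 : T.treeLt 8 5 = true := by decide +kernel

theorem rot6_1 : T.rot 6 [3] (sel (ones 256) ip6 1) = true := by decide +kernel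

theorem rot6_1r : band (Rule.ok (2 * 0) EX RL ⟨6 :: [3], [], 8, false⟩) (lall (memL L) [3]) = true := by decide +kernel

theorem rot6_2 : T.rot 6 [6, 6, 6] (sel (ones 256) ip6 2) = true := by decide +kernel

theorem rot6_2r : band (Rule.ok (2 * 0) EX RL ⟨6 :: [6, 6, 6], [], 0, false⟩) (lall (memL L) [6, 6, 6]) = true := by decide +kernel

theorem rot6_3 : T.rot 6 [1, 2, 4, 3, 5] (sel (ones 256) ip6 3) = true := by decide +kernel

theorem rot6_3r : band (Rule.ok (2 * 0) EX RL ⟨6 :: [1, 2, 4, 3, 5], [5], 1, true⟩) (lall (memL L) [1, 2, 4, 3, 5]) = true := by decide +kernel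

theorem rot6_4 : T.rot 6 [1, 5, 4, 3, 2] (sel (ones 256) ip6 4) = true := by decide +kernel

theorem rot6_4r : band (Rule.ok (2 * 0) EX RL ⟨6 :: [1, 5, 4, 3, 2], [5, 3], 1, false⟩) (lall (memL L) [1, 5, 4, 3, 2]) = true := by decide +kernel

theorem rot6_5 : T.rot 6 [2, 2, 3, 5, 5] (sel (ones 256) ip6 5) = true := by decide +kernel

theorem rot6_5r : band (Rule.ok (2 * 0) EX RL ⟨6 :: [2, 2, 3, 5, 5], [5], 2, true⟩) (lall (memL L) [2, 2, 3, 5, 5]) = true := by decide +kernel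

theorem rot6_6 : T.rot 6 [5, 5, 3, 2, 2] (sel (ones 256) ip6 6) = true := by decide +kernel

theorem rot6_6r : band (Rule.ok (2 * 0) EX RL ⟨6 :: [5, 5, 3, 2, 2], [3, 3, 5], 2, false⟩) (lall (memL L) [5, 5, 3, 2, 2]) = true := by decide +kernel

theorem rot6_7 : T.rot 6 [2, 3, 1, 1, 2] (sel (ones 256) ip6 7) = true := by decide +kernel

theorem rot6_7r : band (Rule.ok (2 * 0) EX RL ⟨6 :: [2, 3, 1, 1, 2], [4, 2, 5], 4, true⟩) (lall (memL L) [2, 3, 1, 1, 2]) = true := by decide +kernel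

theorem rot6_8 : T.rot 6 [5, 3, 5, 4, 4] (sel (ones 256) ip6 8) = true := by decide +kernel

theorem rot6_8r : band (Rule.ok (2 * 0) EX RL ⟨6 :: [5, 3, 5, 4, 4], [], 4, false⟩) (lall (memL L) [5, 3, 5, 4, 4]) = true := by decide +kernel

theorem rot6_9 : T.rot 6 [4, 6, 6, 4, 6, 4, 4] (sel (ones 256) ip6 9) = true := by decide +kernel

theorem rot6_9r : band (Rule.ok (2 * 0) EX RL ⟨6 :: [4, 6, 6, 4, 6, 4, 4], [], 6, false⟩) (lall (memL L) [4, 6, 6, 4, 6, 4, 4]) = true := by decide +kernel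

theorem rot6_10 : T.rot 6 [6, 4, 6, 4, 4, 6, 4] (sel (ones 256) ip6 10) = true := by decide +kernel

theorem rot6_10r : band (Rule.ok (2 * 0) EX RL ⟨6 :: [6, 4, 6, 4, 4, 6, 4], [4, 0], 6, false⟩) (lall (memL L) [6, 4, 6, 4, 4, 6, 4]) = true := by decide +kernel

theorem rot6_11 : T.rot 6 [4, 6, 4, 4, 6, 4, 6] (sel (ones 256) ip6 11) = true := by decide +kernel

theorem rot6_11r : band (Rule.ok (2 * 0) EX RL ⟨6 :: [4, 6, 4, 4, 6, 4, 6], [4, 0, 4], 6, false⟩) (lall (memL L) [4, 6, 4, 4, 6, 4, 6]) = true := by decide +kernel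

theorem rot6_12 : T.rot 6 [4, 4, 6, 4, 6, 6, 4] (sel (ones 256) ip6 12) = true := by decide +kernel

theorem rot6_12r : band (Rule.ok (2 * 0) EX RL ⟨6 :: [4, 4, 6, 4, 6, 6, 4], [1, 1, 5], 6, false⟩) (lall (memL L) [4, 4, 6, 4, 6, 6, 4]) = true := by decide +kernel

theorem cov6 : T.cover 6 [(sel (ones 256) ip6 1), (sel (ones 256) ip6 2), (sel (ones 256) ip6 3), (sel (ones 256) ip6 4), (sel (ones 256) ip6 5), (sel (ones 256) ip6 6), (sel (ones 256) ip6 7), (sel (ones 256) ip6 8), (sel (ones 256) ip6 9), (sel (ones 256) ip6 10), (sel (ones 256) ip6 11), (sel (ones 256) ip6 12)] = true := by decide +kernel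

theorem tl6 : T.treeLt 8 6 = true := by decide +kernel

end Cfsg.Agent.Spor.Rue
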